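import Mathlib
import Cfsg.Agent.Lib.Lead.PGLOrders
import Cfsg.Agent.Lib.Lead.GLBasic
import Cfsg.Agent.Lib.Classical.Dickson.Tools
import Cfsg.Agent.Lib.Solv.CountValues

/-!
The numbers of elements of each order in `GL₂(F) / Z` for odd `q = |F|`: one element of order `1`,
`q²` involutions, `q² - 1` elements of order `p`, and multiples of `q` for every other order.
-/

set_option autoImplicit false
set_option linter.unusedSectionVars false
set_option maxHeartbeats 1600000

namespace Cfsg.Agent.Lie.PGLNse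

open Matrix
open Cfsg.Agent.Solv.CV

universe u

/-- A group acting freely by conjugation on a set of elements has order dividing its size. -/
theorem dvd_of_free {G : Type u} [Group G] [Finite G] (U : Subgroup G) (S : Set G)
    (hcl : ∀ g ∈ U, ∀ x ∈ S, g * x * g⁻¹ ∈ S) (hfree : ∀ g ∈ U, ∀ x ∈ S, g * x = x * g → g = 1) :
    Nat.card U ∣ Nat.card S := by
  classical
  letI : MulAction U S :=
    { smul := fun g x => ⟨(g : G) * x * (g : G)⁻¹, hcl g g.2 x x.2⟩
      one_smul := fun x => Subtype.ext (by show ((1 : U) : G) * x * ((1 : U) : G)⁻¹ = x; simp)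
      mul_smul := fun g h x => Subtype.ext (by
        show ((g * h : U) : G) * x * ((g * h : U) : G)⁻¹ = g * (h * x * (h : G)⁻¹) * (g : G)⁻¹
        simp [mul_assoc]) }
  have hst : ∀ x : S, MulAction.stabilizer U x = ⊥ := fun x => (Subgroup.eq_bot_iff_forall _).2 fun g hg => by
    have h : (g : G) * x * (g : G)⁻¹ = x := congrArg Subtype.val hg
    exact Subtype.ext (hfree g g.2 x x.2 (mul_inv_eq_iff_eq_mul.1 h))
  haveI := Fintype.ofFinite (Quotient (MulAction.orbitRel U S))
  rw [Nat.card_congr (MulAction.selfEquivSigmaOrbitsQuotientStabilizer U S), Nat.card_sigma]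
  refine Finset.dvd_sum fun ω _ => dvd_of_eq ?_
  rw [hst, ← Subgroup.index_eq_card, Subgroup.index_bot]

/-- Frobenius: the elements of order divisible by `p` come in multiples of the `p'`-part of the order. -/
theorem dvd_card_singular {G : Type u} [Group G] [Finite G] {p m r : ℕ} [Fact p.Prime]
    (hG : Nat.card G = p ^ m * r) (hr : ¬ p ∣ r) :
    r ∣ Nat.card {g : G // p ∣ orderOf g} := by
  classical
  haveI := Fintype.ofFinite G
  have hp : p.Prime := Fact.out
  have h := Solv.frobenius_dvd r (G := G) (hG ▸ dvd_mul_left _ _)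
  have he : Nat.card {g : G // g ^ r = 1} = Nat.card {g : G // ¬ p ∣ orderOf g} := by
    refine Nat.card_congr (Equiv.subtypeEquivRight fun g => ⟨fun hg hpg => hr (hpg.trans (orderOf_dvd_of_pow_eq_one hg)),
      fun hg => orderOf_dvd_iff_pow_eq_one.1 ?_⟩)
    exact ((hp.coprime_iff_not_dvd.2 hg).pow_left m).symm.dvd_of_dvd_mul_left (hG ▸ orderOf_dvd_natCard g)
  have hsum : Nat.card {g : G // p ∣ orderOf g} + Nat.card {g : G // ¬ p ∣ orderOf g} = Nat.card G := by
    rw [← Nat.card_sum, Nat.card_congr (Equiv.sumCompl _)]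
  rw [he] at h
  exact (Nat.dvd_add_left h).1 (by rw [hsum, hG]; exact dvd_mul_left _ _)

variable {F : Type*} [Field F] [Fintype F]

local notation "G2" => Matrix.GeneralLinearGroup (Fin 2) F
local notation "Z2" => Subgroup.center (Matrix.GeneralLinearGroup (Fin 2) F)
local notation "q" => Fintype.card F

theorem card_model : Nat.card (G2 ⧸ Z2) = q * (q ^ 2 - 1) := Classical.Dickson.card_pgl F

/-- Solutions of `a² + bc = 0`. -/
theorem card_cone : Nat.card {v : F × F × F // v.1 * v.1 + v.2.1 * v.2.2 = 0} = q * q := by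
  classical
  let f : (F × {c : F // c ≠ 0}) ⊕ F → {v : F × F × F // v.1 * v.1 + v.2.1 * v.2.2 = 0}
    | .inl (a, c) => ⟨(a, -(a * a) / c.1, c.1), by
        show a * a + -(a * a) / c.1 * c.1 = 0
        rw [div_mul_cancel₀ _ c.2, add_neg_cancel]⟩
    | .inr b => ⟨(0, b, 0), by simp⟩
  have hf : Function.Bijective f := by
    constructor
    · rintro (⟨a, c⟩ | b) (⟨a', c'⟩ | b') h <;>
        simp only [f, Subtype.mk.injEq, Prod.mk.injEq] at h
      · rw [h.1, Subtype.ext h.2.2]
      · exact absurd h.2.2 c.2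
      · exact absurd h.2.2.symm c'.2
      · rw [h.2.1]
    · rintro ⟨⟨a, b, c⟩, h⟩
      have h' : a * a + b * c = 0 := h
      by_cases hc : c = 0
      · refine ⟨.inr b, ?_⟩
        rw [hc, mul_zero, add_zero] at h'
        simp [f, hc, mul_self_eq_zero.1 h']
      · refine ⟨.inl (a, ⟨c, hc⟩), ?_⟩
        simp only [f, Subtype.mk.injEq, Prod.mk.injEq, true_and, and_true]
        field_simp
        linear_combination -h'
  rw [← Nat.card_eq_of_bijective f hf, Nat.card_sum, Nat.card_prod, Nat.card_eq_fintype_card,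
    Nat.card_eq_fintype_card, Fintype.card_subtype_compl, Fintype.card_subtype_eq]
  obtain ⟨k, hk⟩ := Nat.exists_eq_succ_of_ne_zero (Fintype.card_ne_zero (α := F))
  rw [hk, Nat.succ_sub_one]; simp only [Nat.succ_eq_add_one]; ring

section Odd

variable {p : ℕ} [Fact p.Prime] [CharP F p] (hp : p ≠ 2)
include hp

theorem two_ne_zero' : (2 : F) ≠ 0 := Ring.two_ne_zero (by rw [ringChar.eq F p]; exact hp)

/-- There are `q²` involutions. -/
theorem cnt_two : cnt (G2 ⧸ Z2) 2 = q ^ 2 := by
  classical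
  have h2 := two_ne_zero' (F := F) hp
  have key : ∀ g : G2, orderOf (QuotientGroup.mk g : G2 ⧸ Z2) = 2 ↔ g.1 0 0 + g.1 1 1 = 0 := by
    intro g
    have hdet : g.1.det ≠ 0 := ((Matrix.isUnit_iff_isUnit_det _).1 g.isUnit).ne_zero
    rw [Matrix.det_fin_two] at hdet
    rw [orderOf_eq_iff two_pos]
    constructor
    · rintro ⟨h, h1⟩
      by_contra ht
      refine h1 1 one_lt_two one_pos ?_
      rw [← QuotientGroup.mk_pow, PGLOrders.mk_eq_one_iff] at h
      rw [pow_one, PGLOrders.mk_eq_one_iff]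
      obtain ⟨c, hc⟩ := h
      have e := fun i j => congrFun (congrFun hc i) j
      simp [pow_two, Matrix.mul_apply, Fin.sum_univ_two] at e
      obtain ⟨⟨e00, e01⟩, e10, e11⟩ := e
      have b0 : g.1 0 1 = 0 := (mul_eq_zero.1 (show g.1 0 1 * (g.1 0 0 + g.1 1 1) = 0 by
        linear_combination e01)).resolve_right ht
      have c0 : g.1 1 0 = 0 := (mul_eq_zero.1 (show g.1 1 0 * (g.1 0 0 + g.1 1 1) = 0 by
        linear_combination e10)).resolve_right ht
      have a0 : g.1 0 0 - g.1 1 1 = 0 := (mul_eq_zero.1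
        (show (g.1 0 0 - g.1 1 1) * (g.1 0 0 + g.1 1 1) = 0 by
          linear_combination e00 - e11)).resolve_right ht
      refine ⟨g.1 0 0, ?_⟩
      ext i j
      fin_cases i <;> fin_cases j <;> simp [b0, c0, sub_eq_zero.1 a0]
    · intro ht
      refine ⟨?_, fun m hm hm0 h => ?_⟩
      · rw [← QuotientGroup.mk_pow, PGLOrders.mk_eq_one_iff]
        refine ⟨-(g.1 0 0 * g.1 1 1 - g.1 0 1 * g.1 1 0), ?_⟩
        have hd : g.1 1 1 = -g.1 0 0 := eq_neg_of_add_eq_zero_right ht
        ext i j
        fin_cases i <;> fin_cases j <;> simp [pow_two, Matrix.mul_apply, Fin.sum_univ_two, hd] <;> ring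
      · obtain rfl : m = 1 := by omega
        rw [pow_one, PGLOrders.mk_eq_one_iff] at h
        obtain ⟨c, hc⟩ := h
        have e := fun i j => congrFun (congrFun hc i) j
        have e00 := e 0 0
        have e11 := e 1 1
        have e01 := e 0 1
        simp at e00 e11 e01
        rw [e00, e11, ← two_mul] at ht
        rw [e00, e11, e01, (mul_eq_zero.1 ht).resolve_left h2] at hdet
        simp at hdet
  set T : Set (G2 ⧸ Z2) := {x | orderOf x = 2}
  have hpre : Nat.card ↑(QuotientGroup.mk ⁻¹' T : Set G2) = Nat.card Z2 * Nat.card T := by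
    rw [← Nat.card_prod]; exact Nat.card_congr (QuotientGroup.preimageMkEquivSubgroupProdSet Z2 T)
  have htr : Nat.card ↑(QuotientGroup.mk ⁻¹' T : Set G2) =
      Nat.card {v : F × F × F // ¬ (v.1 * v.1 + v.2.1 * v.2.2 = 0)} := by
    refine Nat.card_eq_of_bijective (fun g => ⟨(g.1.1 0 0, g.1.1 0 1, g.1.1 1 0), fun h => ?_⟩) ⟨?_, ?_⟩
    · have ht := (key g.1).1 g.2
      refine ((Matrix.isUnit_iff_isUnit_det _).1 g.1.isUnit).ne_zero ?_
      rw [Matrix.det_fin_two, eq_neg_of_add_eq_zero_right ht]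
      linear_combination (-1 : F) * h
    · intro g g' h
      simp only [Subtype.mk.injEq, Prod.mk.injEq] at h
      refine Subtype.ext (Units.ext (Matrix.ext fun i j => ?_))
      have h11 : g.1.1 1 1 = g'.1.1 1 1 := by
        linear_combination (key g.1).1 g.2 - (key g'.1).1 g'.2 - h.1
      fin_cases i <;> fin_cases j
      exacts [h.1, h.2.1, h.2.2, h11]
    · rintro ⟨⟨a, b, c⟩, h⟩
      have hd : (!![a, b; c, -a] : Matrix (Fin 2) (Fin 2) F).det ≠ 0 := by
        intro e; refine h ?_
        simp [Matrix.det_fin_two] at e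
        linear_combination (-1 : F) * e
      refine ⟨⟨Matrix.GeneralLinearGroup.mkOfDetNeZero _ hd, (key _).2 (by simp)⟩, ?_⟩
      simp
  have hc := card_cone (F := F)
  have hsum : Nat.card {v : F × F × F // v.1 * v.1 + v.2.1 * v.2.2 = 0} +
      Nat.card {v : F × F × F // ¬ (v.1 * v.1 + v.2.1 * v.2.2 = 0)} = q * (q * q) := by
    rw [← Nat.card_sum, Nat.card_congr (Equiv.sumCompl _), Nat.card_prod, Nat.card_prod,
      Nat.card_eq_fintype_card]
  rw [hc, ← htr, hpre, Lead.GLBasic.card_center_GL] at hsum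
  show Nat.card T = q ^ 2
  have hq := Fintype.one_lt_card (α := F)
  obtain ⟨k, hk⟩ := Nat.exists_eq_add_of_le hq.le
  rw [hk, Nat.add_sub_cancel_left] at hsum
  refine Nat.eq_of_mul_eq_mul_left (show 0 < k by omega) ?_
  rw [hk]
  linarith

/-- Every element of order divisible by `p` has order `p`. -/
theorem order_p (x : G2 ⧸ Z2) (h : p ∣ orderOf x) : orderOf x = p := by
  have hpp : p.Prime := Fact.out
  obtain ⟨m, -, hm⟩ := FiniteField.card F p
  have hpq : p ∣ q := hm ▸ dvd_pow_self p m.ne_zero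
  have hq := Fintype.one_lt_card (α := F)
  rcases PGLOrders.orderOf_dvd p hp x with h' | h' | h'
  · exact Nat.dvd_antisymm h' h
  · exfalso
    have := Nat.dvd_sub hpq (h.trans h')
    rw [show q - (q - 1) = 1 by omega] at this
    exact hpp.one_lt.ne' (Nat.dvd_one.1 this)
  · exfalso
    exact hpp.one_lt.ne' (Nat.dvd_one.1 ((Nat.dvd_add_right hpq).1 (h.trans h')))

/-- There are `q² - 1` elements of order `p`. -/
theorem cnt_p : cnt (G2 ⧸ Z2) p = q ^ 2 - 1 := by
  classical
  have hpp : p.Prime := Fact.out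
  obtain ⟨m, -, hm⟩ := FiniteField.card F p
  have hq := Fintype.one_lt_card (α := F)
  have hpq : p ∣ q := hm ▸ dvd_pow_self p m.ne_zero
  have hdvd : q ^ 2 - 1 ∣ cnt (G2 ⧸ Z2) p := by
    have h := dvd_card_singular (G := G2 ⧸ Z2) (p := p) (m := m) (r := q ^ 2 - 1)
      (by rw [card_model, hm]) (fun hd => by
        have := Nat.dvd_sub (dvd_pow hpq two_ne_zero) hd
        rw [Nat.sub_sub_self (Nat.one_le_pow _ _ (by omega))] at this
        exact hpp.one_lt.ne' (Nat.dvd_one.1 this))
    rwa [Nat.card_congr (Equiv.subtypeEquivRight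
      fun x : G2 ⧸ Z2 => (⟨order_p hp x, fun e => e ▸ dvd_rfl⟩ : p ∣ orderOf x ↔ orderOf x = p))] at h
  have hle : cnt (G2 ⧸ Z2) p ≤ q ^ 2 - 1 := by
    let f : {v : {v : F × F × F // v.1 * v.1 + v.2.1 * v.2.2 = 0} // v ≠ ⟨0, by simp⟩} → G2 ⧸ Z2 :=
      fun v => QuotientGroup.mk (Matrix.GeneralLinearGroup.mkOfDetNeZero
        !![1 + v.1.1.1, v.1.1.2.1; v.1.1.2.2, 1 - v.1.1.1] (by
          have h := v.1.2
          rw [Matrix.det_fin_two_of]
          intro e
          exact one_ne_zero (α := F) (by linear_combination e + h)))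
    have hsub : {x : G2 ⧸ Z2 | orderOf x = p} ⊆ Set.range f := by
      intro x hx
      obtain ⟨g, rfl⟩ := QuotientGroup.mk_surjective x
      have hx' : orderOf (QuotientGroup.mk g : G2 ⧸ Z2) = p := hx
      have h1 : (QuotientGroup.mk g : G2 ⧸ Z2) ≠ 1 := fun e => by
        rw [e, orderOf_one] at hx'; exact hpp.one_lt.ne hx'
      have hpow : (QuotientGroup.mk g : G2 ⧸ Z2) ^ p = 1 := by rw [← hx', pow_orderOf_eq_one]
      rw [← QuotientGroup.mk_pow, PGLOrders.mk_eq_one_iff] at hpow
      obtain ⟨c, hc⟩ := hpow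
      rw [Units.val_pow_eq_pow_val] at hc
      obtain ⟨d, hd⟩ := (Finite.injective_iff_surjective.1 (frobenius_inj F p)) c
      rw [frobenius_def] at hd
      set N : Matrix (Fin 2) (Fin 2) F := g.1 - d • 1 with hN
      haveI : CharP (Matrix (Fin 2) (Fin 2) F) p := inferInstance
      have hNp : N ^ p = 0 := by
        rw [hN, sub_pow_char_of_commute p (((Commute.one_right _).smul_right _)), hc, smul_pow,
          one_pow, hd, sub_self]
      have hN0 : N ≠ 0 := fun e => h1 ((PGLOrders.mk_eq_one_iff g).2 ⟨d, sub_eq_zero.1 e⟩)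
      have hdetN : N.det = 0 := by
        have := congrArg Matrix.det hNp
        rw [Matrix.det_pow, Matrix.det_zero] at this
        exact eq_zero_of_pow_eq_zero this
      rw [Matrix.det_fin_two] at hdetN
      have hNN : N * N = (N 0 0 + N 1 1) • N := by
        ext i j
        fin_cases i <;> fin_cases j <;>
          simp [Matrix.mul_apply, Fin.sum_univ_two] <;>
          first
          | ring1
          | linear_combination (-1 : F) * hdetN
          | linear_combination hdetN
      have htr : N 0 0 + N 1 1 = 0 := by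
        have hn : ∀ n : ℕ, N ^ (n + 1) = (N 0 0 + N 1 1) ^ n • N := by
          intro n
          induction n with
          | zero => simp
          | succ n ih => rw [pow_succ, ih, smul_mul_assoc, hNN, smul_smul, pow_succ]
        have := hn (p - 1)
        rw [Nat.sub_add_cancel hpp.one_lt.le, hNp] at this
        exact eq_zero_of_pow_eq_zero ((smul_eq_zero.1 this.symm).resolve_right hN0)
      have hd0 : d ≠ 0 := fun e => by
        rw [hN, e, zero_smul, sub_zero] at hNp
        exact (g.isUnit.pow p).ne_zero hNp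
      have e11 : N 1 1 = -N 0 0 := eq_neg_of_add_eq_zero_right htr
      have hcone : d⁻¹ * N 0 0 * (d⁻¹ * N 0 0) + d⁻¹ * N 0 1 * (d⁻¹ * N 1 0) = 0 := by
        rw [e11] at hdetN
        linear_combination (-(d⁻¹ * d⁻¹)) * hdetN
      refine ⟨⟨⟨(d⁻¹ * N 0 0, d⁻¹ * N 0 1, d⁻¹ * N 1 0), hcone⟩, fun e => hN0 ?_⟩, ?_⟩
      · simp only [Subtype.mk.injEq, Prod.ext_iff, Prod.fst_zero, Prod.snd_zero, mul_eq_zero,
          inv_eq_zero, hd0, false_or] at e
        ext i j
        fin_cases i <;> fin_cases j <;> simp [e.1, e.2.1, e.2.2, e11]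
      · show QuotientGroup.mk _ = QuotientGroup.mk g
        rw [show g = Matrix.GeneralLinearGroup.mkOfDetNeZero _ _ *
          Matrix.GeneralLinearGroup.scalar (Fin 2) (Units.mk0 d hd0) from ?_,
          QuotientGroup.mk_mul_of_mem _ (Matrix.GeneralLinearGroup.center_eq_range_scalar (n := Fin 2) (R := F) ▸
            MonoidHom.mem_range.2 ⟨_, rfl⟩)]
        refine Units.ext ?_
        rw [Units.val_mul, show g.1 = N + d • 1 by rw [hN, sub_add_cancel]]
        ext i j
        fin_cases i <;> fin_cases j <;>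
          simp [Matrix.mul_apply, Fin.sum_univ_two, e11] <;> field_simp <;> ring
    calc cnt (G2 ⧸ Z2) p = Set.ncard {x : G2 ⧸ Z2 | orderOf x = p} := Nat.card_coe_set_eq _
      _ ≤ Set.ncard (Set.range f) := Set.ncard_le_ncard hsub (Set.toFinite _)
      _ ≤ _ := by
        rw [← Nat.card_coe_set_eq]
        refine (Finite.card_range_le f).trans ?_
        rw [Nat.card_eq_fintype_card, Fintype.card_subtype_compl, Fintype.card_subtype_eq,
          ← Nat.card_eq_fintype_card, card_cone, pow_two]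
  obtain ⟨x, hx⟩ := PGLOrders.exists_unipotent (F := F) p
  exact le_antisymm hle (Nat.le_of_dvd (Nat.pos_of_ne_zero (cnt_ne_zero.2 ⟨x, hx⟩)) hdvd)

/-- The other counts are multiples of `q`. -/
theorem dvd_cnt {n : ℕ} (h1 : n ≠ 1) (hnp : n ≠ p) : q ∣ cnt (G2 ⧸ Z2) n := by
  classical
  have hpp : p.Prime := Fact.out
  by_cases h0 : cnt (G2 ⧸ Z2) n = 0
  · rw [h0]; exact dvd_zero _
  obtain ⟨x, hx⟩ := cnt_ne_zero.1 h0
  have hpn : ¬ p ∣ n := fun h => hnp (hx ▸ order_p hp x (hx.symm ▸ h))
  let μ : Multiplicative F →* G2 ⧸ Z2 := (QuotientGroup.mk' Z2).comp (MonoidHom.mk'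
    (fun b => Matrix.GeneralLinearGroup.mkOfDetNeZero !![1, Multiplicative.toAdd b; 0, 1]
      (by simp [Matrix.det_fin_two_of]))
    fun a b => Units.ext (by simp [add_comm]))
  have hμ : Function.Injective μ := by
    refine (injective_iff_map_eq_one μ).2 fun b hb => ?_
    obtain ⟨c, hc⟩ := (PGLOrders.mk_eq_one_iff _).1 hb
    have := congrFun (congrFun hc 0) 1
    simp at this
    exact toAdd_eq_zero.1 this
  have hU : Nat.card μ.range = q := by
    rw [← Nat.card_congr (MonoidHom.ofInjective hμ).toEquiv, Nat.card_congr Multiplicative.toAdd,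
      Nat.card_eq_fintype_card]
  rw [← hU]
  refine dvd_of_free μ.range {g | orderOf g = n} (fun g _ y hy => ?_) ?_
  · show orderOf (g * y * g⁻¹) = n
    rw [← MulAut.conj_apply, MulEquiv.orderOf_eq, hy]
  · rintro _ ⟨b, rfl⟩ y hy hc
    by_contra hb
    have hbp : orderOf (μ b) = p := orderOf_eq_prime (by
      rw [← map_pow, show b ^ p = 1 from Multiplicative.toAdd.injective (by
        show p • Multiplicative.toAdd b = 0
        rw [nsmul_eq_mul, CharP.cast_eq_zero, zero_mul]), map_one]) hb
    have ho := Commute.orderOf_mul_eq_mul_orderOf_of_coprime (show Commute (μ b) y from hc)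
      (by rw [hbp, show orderOf y = n from hy]; exact hpp.coprime_iff_not_dvd.2 hpn)
    rw [hbp, show orderOf y = n from hy] at ho
    have h := order_p hp (μ b * y) (ho ▸ dvd_mul_right p n)
    rw [ho] at h
    exact h1 (Nat.eq_of_mul_eq_mul_left hpp.pos (h.trans (mul_one p).symm))

end Odd

end Cfsg.Agent.Lie.PGLNse
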