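import Mathlib
import Cfsg.Agent.Lib.Lie.PGLNse.Model

/-!
A group of order `q(q² - 1)` whose numbers of elements of each order are among those of `PGL₂(q)`.
-/

set_option autoImplicit false
set_option linter.unusedSectionVars false

namespace Cfsg.Agent.Lie.PGLNse

open Cfsg.Agent.Solv.CV

universe u

variable {G : Type u} [Group G] [Finite G] {p k q : ℕ} [Fact p.Prime]

theorem sum_cnt : ∑ n ∈ (Nat.card G).divisors, cnt G n = Nat.card G := by
  classical
  haveI := Fintype.ofFinite G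
  conv_rhs => rw [Nat.card_eq_fintype_card, ← Finset.card_univ,
    Finset.card_eq_sum_card_fiberwise (f := orderOf) (t := (Nat.card G).divisors)
      (fun g _ => Nat.mem_divisors.2 ⟨orderOf_dvd_natCard g, Nat.card_pos.ne'⟩)]
  refine Finset.sum_congr rfl fun n _ => ?_
  rw [cnt, Nat.card_eq_fintype_card, Fintype.card_subtype]

theorem prime_dvd_succ_cnt (h : p ∣ Nat.card G) : p ∣ cnt G p + 1 := by
  have h1 := key (G := G) p h
  rw [Nat.Prime.divisors (Fact.out : p.Prime), Finset.sum_pair (Fact.out : p.Prime).one_lt.ne, cnt_one] at h1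
  rwa [add_comm]

/-- The hypotheses. -/
structure Counts (G : Type u) [Group G] (p k q : ℕ) : Prop where
  hq : q = p ^ k
  hk : k ≠ 0
  q3 : 3 < q
  hp : p ≠ 2
  card : Nat.card G = q * (q ^ 2 - 1)
  val : ∀ n, cnt G n ≠ 0 → cnt G n = 1 ∨ cnt G n = q ^ 2 - 1 ∨ q ∣ cnt G n
  odd : ∀ n, cnt G n ≠ 0 → Odd (cnt G n) → cnt G n = 1 ∨ cnt G n = q ^ 2
  sq : ∃ n, cnt G n = q ^ 2

namespace Counts

variable (C : Counts G p k q)
include C

theorem p_dvd : p ∣ q := C.hq ▸ dvd_pow_self p C.hk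

theorem p_dvd_card : p ∣ Nat.card G := C.card ▸ C.p_dvd.mul_right _

theorem q_odd : Odd q := C.hq ▸ ((Fact.out : p.Prime).odd_of_ne_two C.hp).pow

theorem sq_pos : 1 ≤ q ^ 2 := Nat.one_le_pow _ _ (by have := C.q3; omega)

theorem p_not_dvd : ¬ p ∣ q ^ 2 - 1 := fun h => by
  have := Nat.dvd_sub (dvd_pow C.p_dvd two_ne_zero) h
  rw [Nat.sub_sub_self C.sq_pos] at this
  exact (Fact.out : p.Prime).one_lt.ne' (Nat.dvd_one.1 this)

theorem coprime : Nat.Coprime q (q ^ 2 - 1) :=
  C.hq.symm ▸ ((Fact.out : p.Prime).coprime_iff_not_dvd.2 C.p_not_dvd).pow_left k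

theorem cnt_two : cnt G 2 = q ^ 2 := by
  obtain ⟨n, hn⟩ := C.sq
  have hq := C.q3
  suffices n = 2 by subst this; exact hn
  have hn1 : n ≠ 1 := by
    rintro rfl
    rw [cnt_one] at hn
    nlinarith
  have h0 : n ≠ 0 := by
    rintro rfl
    obtain ⟨g, hg⟩ := cnt_ne_zero.1 (show cnt G 0 ≠ 0 by rw [hn]; positivity)
    exact (orderOf_pos g).ne' hg
  by_contra h2
  have := (Nat.totient_even (show 2 < n by omega)).two_dvd.trans (totient_dvd_cnt (G := G) n)
  rw [hn] at this
  obtain ⟨j, hj⟩ := C.q_odd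
  have h' := Nat.prime_two.dvd_of_dvd_pow this
  omega

theorem eq_one {n : ℕ} (h : cnt G n = 1) : n = 1 := by
  have hd := totient_dvd_cnt (G := G) n
  rw [h, Nat.dvd_one, Nat.totient_eq_one_iff] at hd
  rcases hd with rfl | rfl
  · rfl
  · rw [C.cnt_two] at h
    have := C.q3
    nlinarith

theorem cnt_p : cnt G p = q ^ 2 - 1 := by
  have hpp : p.Prime := Fact.out
  obtain ⟨g, hg⟩ := exists_prime_orderOf_dvd_card' p C.p_dvd_card
  rcases C.val p (cnt_ne_zero.2 ⟨g, hg⟩) with h | h | h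
  · exact absurd (C.eq_one h) hpp.one_lt.ne'
  · exact h
  · exfalso
    exact hpp.one_lt.ne' (Nat.dvd_one.1
      ((Nat.dvd_add_right (C.p_dvd.trans h)).1 (prime_dvd_succ_cnt C.p_dvd_card)))

theorem dvd_cnt {n : ℕ} (hn1 : n ≠ 1) (hnp : n ≠ p) : q ∣ cnt G n := by
  classical
  by_contra hnd
  have hn0 : cnt G n ≠ 0 := fun e => hnd (e ▸ dvd_zero q)
  have hnq : cnt G n = q ^ 2 - 1 := by
    rcases C.val n hn0 with h | h | h
    exacts [absurd (C.eq_one h) hn1, h, absurd h hnd]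
  have hq := C.q3
  have hmem : ∀ m, cnt G m ≠ 0 → m ∈ (Nat.card G).divisors := fun m hm => by
    obtain ⟨g, rfl⟩ := cnt_ne_zero.1 hm
    exact Nat.mem_divisors.2 ⟨orderOf_dvd_natCard g, Nat.card_pos.ne'⟩
  have hsq2 : 1 < q ^ 2 - 1 := by
    have : 3 * 3 ≤ q * q := Nat.mul_le_mul hq.le hq.le
    simp only [← pow_two] at this; omega
  set D := (Nat.card G).divisors with hD
  set A := D.filter fun m => cnt G m = q ^ 2 - 1 with hA
  have hA2 : 2 ≤ A.card := by
    have : ({p, n} : Finset ℕ) ⊆ A := by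
      intro m hm
      rcases Finset.mem_insert.1 hm with rfl | hm
      · exact Finset.mem_filter.2 ⟨hmem _ (by rw [C.cnt_p]; omega), C.cnt_p⟩
      · rw [Finset.mem_singleton.1 hm]; exact Finset.mem_filter.2 ⟨hmem _ hn0, hnq⟩
    simpa [Finset.card_pair hnp.symm] using Finset.card_le_card this
  have h1D : (1 : ℕ) ∈ D.filter fun m => ¬ cnt G m = q ^ 2 - 1 :=
    Finset.mem_filter.2 ⟨hmem 1 (by rw [cnt_one]; omega), by rw [cnt_one]; omega⟩
  have hs := sum_cnt (G := G)
  rw [← Finset.sum_filter_add_sum_filter_not D (fun m => cnt G m = q ^ 2 - 1),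
    Finset.sum_congr rfl (fun m hm => (Finset.mem_filter.1 hm).2), Finset.sum_const, smul_eq_mul,
    ← Finset.add_sum_erase _ _ h1D, cnt_one, C.card] at hs
  obtain ⟨R, hR⟩ : q ∣ ∑ m ∈ (D.filter fun m => ¬ cnt G m = q ^ 2 - 1).erase 1, cnt G m := by
    refine Finset.dvd_sum fun m hm => ?_
    obtain ⟨hm1, hm2⟩ := Finset.mem_erase.1 hm
    by_cases h0 : cnt G m = 0
    · rw [h0]; exact dvd_zero q
    rcases C.val m h0 with h | h | h
    exacts [absurd (C.eq_one h) hm1, absurd h (Finset.mem_filter.1 hm2).2, h]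
  rw [hR, ← hA] at hs
  have hlt : A.card < q := by
    by_contra hge
    have := Nat.mul_le_mul_right (q ^ 2 - 1) (not_lt.1 hge)
    omega
  have hZ : (q : ℤ) ∣ (A.card : ℤ) - 1 := by
    have hs' : ((A.card * (q ^ 2 - 1) + (1 + q * R) : ℕ) : ℤ) = ((q * (q ^ 2 - 1) : ℕ) : ℤ) := by rw [hs]
    push_cast [Nat.cast_sub C.sq_pos] at hs'
    exact ⟨(A.card : ℤ) * q + R - (q ^ 2 - 1), by linear_combination (-1 : ℤ) * hs'⟩
  have := Int.eq_zero_of_dvd_of_natAbs_lt_natAbs hZ (by omega)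
  omega

/-- An element of order divisible by `p` has order `p`. -/
theorem order_p {g : G} (h : p ∣ orderOf g) : orderOf g = p := by
  classical
  haveI := Fintype.ofFinite G
  have hpp : p.Prime := Fact.out
  by_contra hne
  set T : Finset G := Finset.univ.filter fun g => p ∣ orderOf g ∧ orderOf g ≠ p with hT
  have hgT : g ∈ T := Finset.mem_filter.2 ⟨Finset.mem_univ _, h, hne⟩
  have hqT : q ∣ T.card := by
    rw [Finset.card_eq_sum_card_fiberwise (f := orderOf) (t := T.image orderOf)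
      (fun x hx => Finset.mem_image_of_mem _ hx)]
    refine Finset.dvd_sum fun n hn => ?_
    obtain ⟨x, hx, rfl⟩ := Finset.mem_image.1 hn
    obtain ⟨-, hx1, hx2⟩ := Finset.mem_filter.1 hx
    have he : (T.filter fun y => orderOf y = orderOf x).card = cnt G (orderOf x) := by
      rw [cnt, Nat.card_eq_fintype_card, Fintype.card_subtype, hT, Finset.filter_filter]
      exact congrArg Finset.card (Finset.filter_congr fun y _ =>
        ⟨fun e => e.2, fun e => ⟨⟨e ▸ hx1, e ▸ hx2⟩, e⟩⟩)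
    rw [he]
    exact C.dvd_cnt (fun e => hpp.one_lt.ne' (Nat.dvd_one.1 (e ▸ hx1))) hx2
  have hsum : Nat.card {g : G // p ∣ orderOf g} = cnt G p + T.card := by
    rw [cnt, Nat.card_eq_fintype_card, Fintype.card_subtype, Nat.card_eq_fintype_card, Fintype.card_subtype,
      ← Finset.card_union_of_disjoint (Finset.disjoint_filter.2 fun x _ e h' => h'.2 e)]
    refine congrArg Finset.card (Finset.ext fun x => ?_)
    simp only [hT, Finset.mem_union, Finset.mem_filter, Finset.mem_univ, true_and]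
    constructor
    · intro hx; by_cases e : orderOf x = p <;> simp [e, hx]
    · rintro (e | e)
      exacts [e ▸ dvd_rfl, e.1]
  have hrT : q ^ 2 - 1 ∣ T.card := by
    have hd := dvd_card_singular (G := G) (p := p) (m := k) (r := q ^ 2 - 1)
      (by rw [C.card, C.hq]) C.p_not_dvd
    rw [hsum, C.cnt_p] at hd
    exact (Nat.dvd_add_right dvd_rfl).1 hd
  have hbig := Nat.le_of_dvd (Finset.card_pos.2 ⟨g, hgT⟩) (C.coprime.mul_dvd_of_dvd_of_dvd hqT hrT)
  have hle : Nat.card {g : G // p ∣ orderOf g} ≤ Nat.card G := Finite.card_subtype_le _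
  rw [hsum, C.card, C.cnt_p] at hle
  have := C.sq_pos
  have := C.q3
  have : 1 < q ^ 2 := by nlinarith
  omega

end Counts

end Cfsg.Agent.Lie.PGLNse
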