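import Mathlib
import Cfsg.Agent.Lib.Lie.PGLNse.Counts
import Cfsg.Agent.Lib.Lie.SharpBasic

/-!
The Sylow `p`-subgroups of such a group: they are the centralisers of the elements of order `p`.
-/

set_option autoImplicit false
set_option linter.unusedSectionVars false

namespace Cfsg.Agent.Lie.PGLNse

open Cfsg.Agent.Solv.CV MulAction
open scoped Pointwise

universe u

variable {G : Type u} [Group G] [Finite G] {p k q : ℕ} [Fact p.Prime]

namespace Counts

variable (C : Counts G p k q)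
include C

theorem mem_smul {g x : G} {P : Sylow p G} : x ∈ (g • P : Sylow p G) ↔ g⁻¹ * x * g ∈ P := by
  show x ∈ ((g • P : Sylow p G) : Subgroup G) ↔ g⁻¹ * x * g ∈ (P : Subgroup G)
  rw [Sylow.coe_subgroup_smul, Subgroup.mem_pointwise_smul_iff_inv_smul_mem,
    ← map_inv, MulAut.smul_def, MulAut.conj_apply, inv_inv]

theorem orbit_mul {u : G} : Nat.card (Subgroup.centralizer ({u} : Set G)) *
    (orbit (ConjAct G) u).ncard = Nat.card G := by
  rw [Subgroup.nat_card_centralizer_nat_card_stabilizer, ← index_stabilizer,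
    Subgroup.card_mul_index]
  rfl

theorem order_of_commute {u x : G} (hu : orderOf u = p) (h : u * x = x * u) : x ^ p = 1 := by
  have hpp : p.Prime := Fact.out
  by_cases hpx : p ∣ orderOf x
  · rw [← C.order_p hpx, pow_orderOf_eq_one]
  have ho := (show Commute u x from h).orderOf_mul_eq_mul_orderOf_of_coprime
    (hu.symm ▸ hpp.coprime_iff_not_dvd.2 hpx)
  rw [hu] at ho
  have h' := C.order_p (g := u * x) (ho ▸ dvd_mul_right p _)
  rw [ho] at h'
  rw [orderOf_eq_one_iff.1 (Nat.eq_of_mul_eq_mul_left hpp.pos (h'.trans (mul_one p).symm)), one_pow]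

theorem factorization : (Nat.card G).factorization p = k := by
  have h0 : q ^ 2 - 1 ≠ 0 := fun e => C.p_not_dvd (e ▸ dvd_zero p)
  rw [C.card, C.hq, Nat.factorization_mul (pow_ne_zero _ (Fact.out : p.Prime).ne_zero) (C.hq ▸ h0),
    Finsupp.add_apply, (Fact.out : p.Prime).factorization_pow, Finsupp.single_eq_same,
    Nat.factorization_eq_zero_of_not_dvd (C.hq ▸ C.p_not_dvd), add_zero]

theorem card_sylow (P : Sylow p G) : Nat.card P = q := by
  rw [P.card_eq_multiplicity, C.factorization, C.hq]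

theorem order_mem {P : Sylow p G} {u : G} (hu : u ∈ P) (h1 : u ≠ 1) : orderOf u = p := by
  refine C.order_p ?_
  obtain ⟨n, hn⟩ := P.isPGroup'.exists_orderOf_eq_pow ⟨u, hu⟩
  rw [Subgroup.orderOf_mk] at hn
  rcases n with _ | n
  · exact absurd (orderOf_eq_one_iff.1 (by rw [hn, pow_zero])) h1
  · exact hn ▸ dvd_pow_self p n.succ_ne_zero

theorem card_cent {u : G} (hu : orderOf u = p) : Nat.card (Subgroup.centralizer ({u} : Set G)) = q := by
  classical
  haveI := Fintype.ofFinite G
  have hpg : IsPGroup p (Subgroup.centralizer ({u} : Set G)) := fun x => ⟨1, Subtype.ext (by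
    rw [pow_one, SubgroupClass.coe_pow]
    exact C.order_of_commute hu (Subgroup.mem_centralizer_singleton_iff.1 x.2).symm)⟩
  obtain ⟨j, hj⟩ := IsPGroup.iff_card.1 hpg
  have hd : Nat.card (Subgroup.centralizer ({u} : Set G)) ∣ q := by
    refine Nat.Coprime.dvd_of_dvd_mul_right ?_ (C.card ▸ Subgroup.card_subgroup_dvd_card _)
    rw [hj]
    exact ((Fact.out : p.Prime).coprime_iff_not_dvd.2 C.p_not_dvd).pow_left j
  refine le_antisymm (Nat.le_of_dvd (by have := C.q3; omega) hd) ?_
  have hidx : (orbit (ConjAct G) u).ncard ≤ q ^ 2 - 1 := by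
    rw [← C.cnt_p, cnt, ← Set.coe_ofPred, Nat.card_coe_set_eq]
    refine Set.ncard_le_ncard ?_ (Set.toFinite _)
    rintro _ ⟨g, rfl⟩
    show orderOf (g • u) = p
    rw [ConjAct.smul_def, ← MulAut.conj_apply, MulEquiv.orderOf_eq, hu]
  have h := C.orbit_mul (u := u)
  rw [C.card] at h
  have hr : 0 < q ^ 2 - 1 := Nat.pos_of_ne_zero fun e => C.p_not_dvd (e ▸ dvd_zero p)
  refine Nat.le_of_mul_le_mul_right ?_ hr
  rw [← h]
  exact Nat.mul_le_mul_left _ hidx

/-- The elements of order `p` form one class. -/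
theorem conj {u v : G} (hu : orderOf u = p) (hv : orderOf v = p) : ∃ g, g * u * g⁻¹ = v := by
  classical
  haveI := Fintype.ofFinite G
  have hidx : (orbit (ConjAct G) u).ncard = q ^ 2 - 1 := by
    have h := C.orbit_mul (u := u)
    rw [C.card, C.card_cent hu] at h
    exact Nat.eq_of_mul_eq_mul_left (by have := C.q3; omega) h
  rw [← C.cnt_p, cnt, ← Set.coe_ofPred, Nat.card_coe_set_eq] at hidx
  have hsub : orbit (ConjAct G) u ⊆ {g | orderOf g = p} := by
    rintro _ ⟨g, rfl⟩
    show orderOf (g • u) = p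
    rw [ConjAct.smul_def, ← MulAut.conj_apply, MulEquiv.orderOf_eq, hu]
  obtain ⟨g, hg⟩ := (Set.eq_of_subset_of_ncard_le hsub hidx.ge (Set.toFinite _)).ge hv
  exact ⟨ConjAct.ofConjAct g, by rw [← ConjAct.smul_def]; exact hg⟩

/-- Some element inverts an element of the centre of a Sylow subgroup and normalises it. -/
theorem inverter (P : Sylow p G) :
    ∃ t : G, t • P = P ∧ t * t = 1 ∧ t ≠ 1 := by
  have hpp : p.Prime := Fact.out
  haveI : Nontrivial P := by
    rw [← Finite.one_lt_card_iff_nontrivial, C.card_sylow]; have := C.q3; omega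
  obtain ⟨z, hz1⟩ := (Subgroup.nontrivial_iff_exists_ne_one _).1 P.isPGroup'.center_nontrivial
  obtain ⟨hzZ, hz1⟩ := hz1
  set w : G := (z : G) with hw
  have hw1 : w ≠ 1 := fun e => hz1 (Subtype.ext e)
  have hwo : orderOf w = p := C.order_mem z.2 hw1
  have hP : Subgroup.centralizer ({w} : Set G) = P := by
    refine (Subgroup.eq_of_le_of_card_ge (fun x hx => ?_) (by rw [C.card_cent hwo, C.card_sylow])).symm
    rw [Subgroup.mem_centralizer_singleton_iff]
    exact congrArg Subtype.val (Subgroup.mem_center_iff.1 hzZ ⟨x, hx⟩)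
  obtain ⟨g, hg⟩ := C.conj hwo (show orderOf w⁻¹ = p by rw [orderOf_inv, hwo])
  have hgP : g • P = P := by
    refine Sylow.ext (SetLike.ext fun x => ?_)
    show x ∈ (g • P : Sylow p G) ↔ x ∈ P
    rw [C.mem_smul]
    show _ ∈ (P : Subgroup G) ↔ x ∈ (P : Subgroup G)
    rw [← hP,
      Subgroup.mem_centralizer_singleton_iff, Subgroup.mem_centralizer_singleton_iff]
    have hg' : g * w = w⁻¹ * g := mul_inv_eq_iff_eq_mul.1 hg
    constructor
    · intro h
      have h2 : x * w⁻¹ = w⁻¹ * x := by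
        rw [← hg]
        calc x * (g * w * g⁻¹) = g * (g⁻¹ * x * g * w) * g⁻¹ := by group
          _ = g * (w * (g⁻¹ * x * g)) * g⁻¹ := by rw [h]
          _ = g * w * g⁻¹ * x := by group
      exact (Commute.inv_right_iff.1 h2 : Commute x w)
    · intro h
      have h2 : x * (g * w * g⁻¹) = g * w * g⁻¹ * x := by rw [hg]; exact (show Commute x w from h).inv_right
      calc g⁻¹ * x * g * w = g⁻¹ * (x * (g * w * g⁻¹)) * g := by group
        _ = g⁻¹ * (g * w * g⁻¹ * x) * g := by rw [h2]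
        _ = w * (g⁻¹ * x * g) := by group
  have hgg : (g * g) * w = w * (g * g) := by
    have hg' : g * w⁻¹ * g⁻¹ = w :=
      calc g * w⁻¹ * g⁻¹ = (g * w * g⁻¹)⁻¹ := by group
        _ = w := by rw [hg, inv_inv]
    calc g * g * w = g * (g * w * g⁻¹) * g := by group
      _ = g * w⁻¹ * g⁻¹ * (g * g) := by rw [hg]; group
      _ = w * (g * g) := by rw [hg']
  obtain ⟨m, hm⟩ := hpp.odd_of_ne_two C.hp
  refine ⟨g ^ p, ?_, ?_, fun e => ?_⟩
  · rw [Sylow.smul_eq_iff_mem_normalizer] at hgP ⊢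
    exact pow_mem hgP p
  · rw [← pow_add, ← two_mul, pow_mul, pow_two]
    exact C.order_of_commute hwo hgg.symm
  · have h1 : g ^ p * w * (g ^ p)⁻¹ = w⁻¹ := by
      rw [hm, pow_succ', pow_mul, pow_two]
      have hc : (g * g) ^ m * w = w * (g * g) ^ m := (show Commute (g * g) w from hgg).pow_left m
      calc g * (g * g) ^ m * w * (g * (g * g) ^ m)⁻¹ = g * ((g * g) ^ m * w) * ((g * g) ^ m)⁻¹ * g⁻¹ := by group
        _ = g * w * g⁻¹ := by rw [hc]; group
        _ = w⁻¹ := hg
    rw [e, one_mul, inv_one, mul_one] at h1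
    have : orderOf w ∣ 2 := orderOf_dvd_of_pow_eq_one (by rw [pow_two]; exact eq_inv_iff_mul_eq_one.1 h1)
    rw [hwo] at this
    exact C.hp ((Nat.prime_dvd_prime_iff_eq hpp Nat.prime_two).1 this)

theorem inverts {P : Sylow p G} {t : G} (htP : t • P = P) (htt : t * t = 1) (ht1 : t ≠ 1)
    {y : G} (hy : y ∈ P) : t * y * t = y⁻¹ := by
  have hpp : p.Prime := Fact.out
  haveI := Fintype.ofFinite G
  have ht' : t⁻¹ = t := inv_eq_of_mul_eq_one_right htt
  have hmem : ∀ x : P, t * x * t ∈ P := fun x => by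
    have hm := C.mem_smul (g := t) (x := t * (x : G) * t) (P := P)
    rw [htP] at hm
    refine hm.2 ?_
    rw [ht']
    have e : t * (t * (x : G) * t) * t = x := by
      calc t * (t * (x : G) * t) * t = (t * t) * x * (t * t) := by group
        _ = x := by rw [htt, one_mul, mul_one]
    exact e.symm ▸ x.2
  let f : P → P := fun x => ⟨(x : G)⁻¹ * (t * x * t), mul_mem (inv_mem x.2) (hmem x)⟩
  have hinj : Function.Injective f := by
    intro a b h
    have h' : (a : G)⁻¹ * (t * a * t) = (b : G)⁻¹ * (t * b * t) := congrArg Subtype.val h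
    refine Subtype.ext (mul_inv_eq_one.1 ?_).symm
    by_contra hne
    have hcm : t * ((b : G) * (a : G)⁻¹) = ((b : G) * (a : G)⁻¹) * t := by
      have h3 : (b : G) * (a : G)⁻¹ = t * ((b : G) * (a : G)⁻¹) * t⁻¹ := by
        calc (b : G) * (a : G)⁻¹ = (b : G) * ((a : G)⁻¹ * (t * a * t)) * (t * a * t)⁻¹ := by group
          _ = t * b * t * (t * a * t)⁻¹ := by rw [h']; group
          _ = t * ((b : G) * (a : G)⁻¹) * t⁻¹ := by group
      nth_rw 2 [h3]
      group
    have h2 := C.order_of_commute (C.order_mem (mul_mem b.2 (inv_mem a.2)) hne) hcm.symm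
    have hd2 : orderOf t ∣ 2 := orderOf_dvd_of_pow_eq_one (by rw [pow_two, htt])
    exact ht1 (orderOf_eq_one_iff.1 (Nat.eq_one_of_dvd_coprimes
      ((Nat.coprime_primes Nat.prime_two hpp).2 (Ne.symm C.hp)) hd2 (orderOf_dvd_of_pow_eq_one h2)))
  obtain ⟨x, hx⟩ := (Finite.injective_iff_surjective.1 hinj) ⟨y, hy⟩
  have hx' : (x : G)⁻¹ * (t * x * t) = y := congrArg Subtype.val hx
  rw [← hx']
  calc t * ((x : G)⁻¹ * (t * x * t)) * t = t * (x : G)⁻¹ * t * x * (t * t) := by group
    _ = t⁻¹ * (x : G)⁻¹ * t⁻¹ * x := by rw [htt, mul_one, ht']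
    _ = _ := by group

theorem cent_eq {P : Sylow p G} {u : G} (hu : u ∈ P) (h1 : u ≠ 1) :
    Subgroup.centralizer ({u} : Set G) = P := by
  obtain ⟨t, htP, htt, ht1⟩ := C.inverter P
  refine (Subgroup.eq_of_le_of_card_ge (fun x hx => ?_)
    (by rw [C.card_cent (C.order_mem hu h1), C.card_sylow])).symm
  rw [Subgroup.mem_centralizer_singleton_iff]
  have e1 := C.inverts htP htt ht1 hx
  have e2 := C.inverts htP htt ht1 hu
  have e3 := C.inverts htP htt ht1 (mul_mem hx hu)
  have e4 : t * (x * u) * t = x⁻¹ * u⁻¹ := by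
    rw [← e1, ← e2]
    calc t * (x * u) * t = t * x * 1 * u * t := by group
      _ = t * x * t * (t * u * t) := by rw [← htt]; group
  rw [e3, mul_inv_rev] at e4
  exact inv_injective (by rw [mul_inv_rev, mul_inv_rev]; exact e4)

theorem sylow_eq {P Q : Sylow p G} {u : G} (hP : u ∈ P) (hQ : u ∈ Q) (h1 : u ≠ 1) : P = Q :=
  Sylow.ext ((C.cent_eq hP h1).symm.trans (C.cent_eq hQ h1))

theorem exists_sylow {u : G} (hu : orderOf u = p) : ∃ P : Sylow p G, u ∈ P := by
  refine ⟨Sylow.ofCard (Subgroup.centralizer ({u} : Set G)) (by rw [C.card_cent hu, C.factorization, C.hq]), ?_⟩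
  show u ∈ ((Sylow.ofCard _ _ : Sylow p G) : Subgroup G)
  rw [Sylow.coe_ofCard, Subgroup.mem_centralizer_singleton_iff]

theorem card_sylows : Nat.card (Sylow p G) = q + 1 := by
  classical
  haveI := Fintype.ofFinite G
  haveI := Fintype.ofFinite (Sylow p G)
  let f : (Σ P : Sylow p G, {x : P // x ≠ 1}) → {g : G // orderOf g = p} :=
    fun w => ⟨w.2.1.1, C.order_mem w.2.1.2 fun e => w.2.2 (Subtype.ext e)⟩
  have hf : Function.Bijective f := by
    constructor
    · rintro ⟨P, ⟨x, hx⟩, hx1⟩ ⟨Q, ⟨y, hy⟩, hy1⟩ h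
      have h' : x = y := congrArg Subtype.val h
      subst h'
      obtain rfl := C.sylow_eq hx hy fun e => hx1 (Subtype.ext e)
      rfl
    · rintro ⟨g, hg⟩
      obtain ⟨P, hP⟩ := C.exists_sylow hg
      exact ⟨⟨P, ⟨g, hP⟩, fun e => by
        rw [show g = 1 from congrArg Subtype.val e, orderOf_one] at hg
        exact (Fact.out : p.Prime).one_lt.ne hg⟩, rfl⟩
  have h := Nat.card_eq_of_bijective f hf
  rw [Nat.card_sigma, ← cnt, C.cnt_p, Finset.sum_congr rfl (fun P _ => show _ = q - 1 by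
    rw [Nat.card_eq_fintype_card, Fintype.card_subtype_compl, Fintype.card_subtype_eq,
      ← Nat.card_eq_fintype_card]
    exact congrArg (· - 1) (C.card_sylow P)), Finset.sum_const, Finset.card_univ,
    ← Nat.card_eq_fintype_card, smul_eq_mul] at h
  have hq := C.q3
  refine Nat.eq_of_mul_eq_mul_right (show 0 < q - 1 by omega) ?_
  rw [h, ← one_pow 2, Nat.sq_sub_sq, one_pow]

/-- A Sylow subgroup acts semiregularly on the others. -/
theorem semireg {P Q : Sylow p G} (hne : Q ≠ P) {x : G} (hx : x ∈ P) (h : x • Q = Q) : x = 1 := by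
  by_contra h1
  have hn : x ∈ (P : Subgroup G) ⊓ Subgroup.normalizer (Q : Set G) :=
    ⟨hx, Sylow.smul_eq_iff_mem_normalizer.1 h⟩
  rw [P.isPGroup'.inf_normalizer_sylow Q] at hn
  exact hne (C.sylow_eq hn.2 hx h1)

theorem regular {P Q R : Sylow p G} (hQ : Q ≠ P) (hR : R ≠ P) : ∃ x ∈ P, x • Q = R := by
  classical
  haveI := Fintype.ofFinite (Sylow p G)
  have hfix : ∀ x : P, (x : G) • P = P := fun x =>
    Sylow.smul_eq_iff_mem_normalizer.2 (Subgroup.le_normalizer x.2)
  let f : P → {S : Sylow p G // S ≠ P} := fun x => ⟨(x : G) • Q, fun e =>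
    hQ (smul_left_cancel (x : G) (e.trans (hfix x).symm))⟩
  have hinj : Function.Injective f := by
    intro a b h
    have h' : (a : G) • Q = (b : G) • Q := congrArg Subtype.val h
    refine Subtype.ext (inv_mul_eq_one.1 (C.semireg hQ (mul_mem (inv_mem b.2) a.2) ?_)).symm
    rw [mul_smul, h', inv_smul_smul]
  obtain ⟨x, hx⟩ := ((Nat.bijective_iff_injective_and_card f).2 ⟨hinj, by
    refine (C.card_sylow P).trans ?_
    haveI := Fintype.ofFinite {S : Sylow p G // S ≠ P}
    rw [Nat.card_eq_fintype_card, Fintype.card_subtype_compl, Fintype.card_subtype_eq,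
      ← Nat.card_eq_fintype_card, C.card_sylows]
    omega⟩).2 ⟨R, hR⟩
  exact ⟨x, x.2, congrArg Subtype.val hx⟩

theorem three : Zassenhaus.ThreePoint G (Sylow p G) := by
  intro g a b c hab hbc hac ha hb hc
  obtain ⟨x, hx, hxc⟩ := C.regular (P := a) hab.symm hac.symm
  have hgx : g * x * g⁻¹ ∈ a := by
    rw [← ha, C.mem_smul]
    simpa [mul_assoc] using hx
  have hxe : g * x * g⁻¹ = x := by
    refine (inv_mul_eq_one.1 (C.semireg hab.symm (mul_mem (inv_mem hx) hgx) ?_)).symm
    have hb' : g⁻¹ • b = b := inv_smul_eq_iff.2 hb.symm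
    rw [mul_smul, mul_smul, mul_smul, hb', hxc, hc, ← hxc, inv_smul_smul]
  have hx1 : x ≠ 1 := fun e => hbc (by rw [← hxc, e, one_smul])
  have hga : g ∈ a := by
    show g ∈ (a : Subgroup G)
    rw [← C.cent_eq hx hx1, Subgroup.mem_centralizer_singleton_iff]
    exact mul_inv_eq_iff_eq_mul.1 hxe
  exact C.semireg hab.symm hga hb

end Counts

end Cfsg.Agent.Lie.PGLNse
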