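import Mathlib
import Cfsg.Agent.Lib.Lie.PGLNse.Points
import Cfsg.Agent.Lib.Lie.SharpPGL
import Cfsg.Agent.Lib.Lie.SharpStructure

/-!
Such a group is sharply triply transitive on its Sylow `p`-subgroups, with inverted two-point
stabilisers, hence is `PGL₂(q)`.
-/

set_option autoImplicit false
set_option linter.unusedSectionVars false
set_option linter.style.haveILetI false

namespace Cfsg.Agent.Lie.PGLNse

open Cfsg.Agent.Solv.CV MulAction
open Cfsg.Agent.Lie.SharpCoords
open scoped Pointwise

universe u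

variable {G : Type u} [Group G] [Finite G] {p k q : ℕ} [Fact p.Prime]

namespace Counts

variable (C : Counts G p k q)
include C

theorem smul_self' {P : Sylow p G} {x : G} (hx : x ∈ P) : x • P = P :=
  Sylow.smul_eq_iff_mem_normalizer.2 (Subgroup.le_normalizer hx)

theorem two_trans : IsMultiplyPretransitive G (Sylow p G) 2 := by
  rw [is_two_pretransitive_iff]
  intro a b c d hab hcd
  obtain ⟨g, hg⟩ := MulAction.exists_smul_eq G a c
  have hgb : g • b ≠ c := fun e => hab (smul_left_cancel g (hg.trans e.symm))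
  obtain ⟨x, hx, hxb⟩ := C.regular hgb hcd.symm
  exact ⟨x * g, by rw [mul_smul, hg, C.smul_self' hx], by rw [mul_smul, hxb]⟩

theorem faithful : FaithfulSMul G (Sylow p G) := by
  refine ⟨fun {g h} hgh => ?_⟩
  classical
  haveI := Fintype.ofFinite (Sylow p G)
  have hc := C.card_sylows
  rw [Nat.card_eq_fintype_card] at hc
  obtain ⟨a, b, c, hab, hac, hbc⟩ := Fintype.two_lt_card_iff.1 (show 2 < Fintype.card (Sylow p G) by
    have := C.q3; omega)
  refine (inv_mul_eq_one.1 (C.three _ a b c hab hbc hac ?_ ?_ ?_)).symm <;>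
    rw [mul_smul, hgh, inv_smul_smul]

theorem card_stab (a : Sylow p G) : Nat.card (stabilizer G a) = q * (q - 1) := by
  have h := (stabilizer G a).card_mul_index
  rw [index_stabilizer_of_transitive, C.card_sylows, C.card] at h
  refine Nat.eq_of_mul_eq_mul_right (show 0 < q + 1 by omega) ?_
  rw [h, ← one_pow 2, Nat.sq_sub_sq, one_pow]
  ring

theorem card_two {a b : Sylow p G} (hab : a ≠ b) : Nat.card (Two G a b) = q - 1 := by
  let f : a × Two G a b → stabilizer G a := fun w => ⟨(w.1 : G) * w.2, by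
    rw [mem_stabilizer_iff, mul_smul, mem_stabilizer_iff.1 w.2.2.1, C.smul_self' w.1.2]⟩
  have hf : Function.Bijective f := by
    constructor
    · rintro ⟨x, d⟩ ⟨x', d'⟩ h
      have h' : (x : G) * d = x' * d' := congrArg Subtype.val h
      have hb : (x : G) • b = (x' : G) • b := by
        calc (x : G) • b = ((x : G) * d) • b := by rw [mul_smul, mem_stabilizer_iff.1 d.2.2]
          _ = ((x' : G) * d') • b := by rw [h']
          _ = (x' : G) • b := by rw [mul_smul, mem_stabilizer_iff.1 d'.2.2]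
      have hx : x = x' := Subtype.ext (inv_mul_eq_one.1 (C.semireg hab.symm
        (mul_mem (inv_mem x'.2) x.2) (by rw [mul_smul, hb, inv_smul_smul]))).symm
      subst hx
      exact Prod.ext rfl (Subtype.ext (mul_left_cancel h'))
    · rintro ⟨g, hg⟩
      have hgb : g • b ≠ a := fun e => hab
        (smul_left_cancel g ((mem_stabilizer_iff.1 hg).trans e.symm))
      obtain ⟨x, hx, hxb⟩ := C.regular hab.symm hgb
      refine ⟨(⟨x, hx⟩, ⟨x⁻¹ * g, ?_, ?_⟩), Subtype.ext (mul_inv_cancel_left x g)⟩
      · show (x⁻¹ * g) • a = a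
        rw [mul_smul, mem_stabilizer_iff.1 hg, C.smul_self' (inv_mem hx)]
      · show (x⁻¹ * g) • b = b
        rw [mul_smul, ← hxb, inv_smul_smul]
  have h := Nat.card_eq_of_bijective f hf
  rw [Nat.card_prod, C.card_stab, show Nat.card a = q from C.card_sylow a] at h
  exact Nat.eq_of_mul_eq_mul_left (by have := C.q3; omega) h

/-- Every Sylow subgroup is fixed by `q` involutions. -/
theorem card_fixing (P : Sylow p G) : Nat.card {i : G // orderOf i = 2 ∧ i • P = P} = q := by
  obtain ⟨t, htP, htt, ht1⟩ := C.inverter P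
  rw [← C.card_sylow P]
  have htx : ∀ x : G, x ∈ P → orderOf (t * x) = 2 ∧ (t * x) • P = P := by
    intro x hx
    refine ⟨orderOf_eq_prime ?_ fun e => ?_, by rw [mul_smul, C.smul_self' hx, htP]⟩
    · rw [pow_two, ← mul_assoc, C.inverts htP htt ht1 hx, inv_mul_cancel]
    · have hmem : t ∈ P := by rw [eq_inv_of_mul_eq_one_left e]; exact inv_mem hx
      have := C.order_mem hmem ht1
      have h2 : orderOf t ∣ 2 := orderOf_dvd_of_pow_eq_one (by rw [pow_two, htt])
      rw [this] at h2
      exact C.hp ((Nat.prime_dvd_prime_iff_eq Fact.out Nat.prime_two).1 h2)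
  refine (Nat.card_eq_of_bijective (fun x : P => (⟨t * x, htx x x.2⟩ : {i : G // orderOf i = 2 ∧ i • P = P}))
    ⟨fun x y h => Subtype.ext (mul_left_cancel (congrArg Subtype.val h)), ?_⟩).symm
  rintro ⟨i, hi, hiP⟩
  have hii : i * i = 1 := by rw [← pow_two, ← hi, pow_orderOf_eq_one]
  have hi1 : i ≠ 1 := fun e => by rw [e, orderOf_one] at hi; omega
  haveI : Nontrivial P := by
    rw [← Finite.one_lt_card_iff_nontrivial, show Nat.card P = q from C.card_sylow P]
    have := C.q3; omega
  obtain ⟨x, hx⟩ := exists_ne (1 : P)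
  have hx1 : (x : G) ≠ 1 := fun e => hx (Subtype.ext e)
  have hti : t * i ∈ (P : Subgroup G) := by
    rw [← C.cent_eq x.2 hx1, Subgroup.mem_centralizer_singleton_iff]
    have e1 := C.inverts hiP hii hi1 x.2
    have e2 := C.inverts htP htt ht1 (inv_mem x.2)
    rw [inv_inv] at e2
    calc t * i * x = t * (i * x * i) * i⁻¹ := by group
      _ = t * (x : G)⁻¹ * t * t * i := by
          rw [e1, inv_eq_of_mul_eq_one_right hii, mul_assoc (t * (x : G)⁻¹) t t, htt, mul_one]
      _ = x * (t * i) := by rw [e2]; group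
  exact ⟨⟨t * i, hti⟩, Subtype.ext (show t * (t * i) = i by rw [← mul_assoc, htt, one_mul])⟩

/-- All elements interchanging two points are involutions. -/
theorem swap_sq {a b : Sylow p G} (hab : a ≠ b) {t g : G} (hta : t • a = b) (htb : t • b = a)
    (hga : g • a = b) (hgb : g • b = a) : g * g = 1 := by
  classical
  haveI := Fintype.ofFinite G
  haveI := Fintype.ofFinite (Sylow p G)
  have hq := C.q3
  -- involutions moving a point
  have hI : Nat.card {w : G × Sylow p G // orderOf w.1 = 2} = q ^ 2 * (q + 1) := by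
    rw [← C.cnt_two, cnt, ← C.card_sylows, ← Nat.card_prod]
    exact Nat.card_congr
      { toFun := fun w => (⟨w.1.1, w.2⟩, w.1.2)
        invFun := fun w => ⟨(w.1.1, w.2), w.1.2⟩
        left_inv := fun _ => rfl
        right_inv := fun _ => rfl }
  have hfix : Nat.card {w : G × Sylow p G // orderOf w.1 = 2 ∧ w.1 • w.2 = w.2} = (q + 1) * q := by
    rw [Nat.card_congr (β := Σ P : Sylow p G, {i : G // orderOf i = 2 ∧ i • P = P})
      { toFun := fun w => ⟨w.1.2, w.1.1, w.2⟩
        invFun := fun w => ⟨(w.2.1, w.1), w.2.2⟩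
        left_inv := fun _ => rfl
        right_inv := fun _ => rfl }, Nat.card_sigma, Finset.sum_congr rfl (fun P _ => C.card_fixing P),
      Finset.sum_const, Finset.card_univ, smul_eq_mul, ← Nat.card_eq_fintype_card, C.card_sylows]
  have hmov : Nat.card {w : G × Sylow p G // orderOf w.1 = 2 ∧ ¬ w.1 • w.2 = w.2} + (q + 1) * q =
      q ^ 2 * (q + 1) := by
    rw [← hI, ← hfix, ← Nat.card_sum]
    exact Nat.card_congr
      { toFun := Sum.elim (fun w => ⟨w.1, w.2.1⟩) (fun w => ⟨w.1, w.2.1⟩)
        invFun := fun w => if h : w.1.1 • w.1.2 = w.1.2 then .inr ⟨w.1, w.2, h⟩ else .inl ⟨w.1, w.2, h⟩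
        left_inv := by rintro (w | w) <;> simp [w.2.2]
        right_inv := fun w => by
          dsimp only
          by_cases h : w.1.1 • w.1.2 = w.1.2 <;> simp [h] }
  -- the count is the same for every pair
  set m := Nat.card {i : G // orderOf i = 2 ∧ i • a = b} with hm
  have hm' : ∀ w : {w : Sylow p G × Sylow p G // w.1 ≠ w.2},
      Nat.card {i : G // orderOf i = 2 ∧ i • w.1.1 = w.1.2} = m := by
    intro w
    obtain ⟨s, hsa, hsb⟩ := (is_two_pretransitive_iff.1 C.two_trans) hab w.2
    rw [hm]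
    refine (Nat.card_congr (Equiv.subtypeEquiv (MulAut.conj s).toEquiv fun i => ?_)).symm
    show _ ↔ orderOf (MulAut.conj s i) = 2 ∧ (MulAut.conj s i) • w.1.1 = w.1.2
    rw [MulEquiv.orderOf_eq, MulAut.conj_apply, ← hsa, ← hsb, mul_smul, inv_smul_smul, mul_smul]
    simp
  have hpairs : Nat.card {w : Sylow p G × Sylow p G // w.1 ≠ w.2} = (q + 1) * q := by
    rw [Nat.card_congr (β := Σ x : Sylow p G, {y : Sylow p G // x ≠ y})
      { toFun := fun w => ⟨w.1.1, w.1.2, w.2⟩
        invFun := fun w => ⟨(w.1, w.2.1), w.2.2⟩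
        left_inv := fun _ => rfl
        right_inv := fun _ => rfl }, Nat.card_sigma, Finset.sum_congr rfl (fun x _ => show _ = q by
        rw [Nat.card_congr (Equiv.subtypeEquivRight fun y => (ne_comm : x ≠ y ↔ y ≠ x)),
          Nat.card_eq_fintype_card, Fintype.card_subtype_compl, Fintype.card_subtype_eq,
          ← Nat.card_eq_fintype_card, C.card_sylows, Nat.add_sub_cancel]),
      Finset.sum_const, Finset.card_univ, smul_eq_mul, ← Nat.card_eq_fintype_card, C.card_sylows]
  have hsum : Nat.card {w : G × Sylow p G // orderOf w.1 = 2 ∧ ¬ w.1 • w.2 = w.2} = (q + 1) * q * m := by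
    rw [Nat.card_congr (β := Σ w : {w : Sylow p G × Sylow p G // w.1 ≠ w.2},
        {i : G // orderOf i = 2 ∧ i • w.1.1 = w.1.2})
      { toFun := fun w => ⟨⟨(w.1.2, w.1.1 • w.1.2), fun e => w.2.2 e.symm⟩, w.1.1, w.2.1, rfl⟩
        invFun := fun w => ⟨(w.2.1, w.1.1.1), w.2.2.1, fun e => w.1.2 (e.symm.trans w.2.2.2)⟩
        left_inv := fun _ => rfl
        right_inv := fun w => by
          obtain ⟨⟨⟨x, y⟩, hxy⟩, i, hi, hiy⟩ := w
          obtain rfl : i • x = y := hiy
          rfl }, Nat.card_sigma, Finset.sum_congr rfl (fun w _ => hm' w), Finset.sum_const,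
      Finset.card_univ, smul_eq_mul, ← Nat.card_eq_fintype_card, hpairs]
  have hmv : m = q - 1 := by
    rw [hsum] at hmov
    have hpos : 0 < (q + 1) * q := by positivity
    have : m + 1 = q := Nat.eq_of_mul_eq_mul_left hpos (by linarith [hmov, show q ^ 2 * (q + 1) = (q + 1) * q * q by ring])
    omega
  -- the elements interchanging the two points
  let e : Two G a b ≃ {x : G // x • a = b ∧ x • b = a} :=
    { toFun := fun d => ⟨t * d, by rw [mul_smul, mem_stabilizer_iff.1 d.2.1, hta],
        by rw [mul_smul, mem_stabilizer_iff.1 d.2.2, htb]⟩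
      invFun := fun x => ⟨t⁻¹ * x, by
        show (t⁻¹ * (x : G)) • a = a
        rw [mul_smul, x.2.1, inv_smul_eq_iff, hta], by
        show (t⁻¹ * (x : G)) • b = b
        rw [mul_smul, x.2.2, inv_smul_eq_iff, htb]⟩
      left_inv := fun d => Subtype.ext (inv_mul_cancel_left t (d : G))
      right_inv := fun x => Subtype.ext (mul_inv_cancel_left t (x : G)) }
  let ι : {i : G // orderOf i = 2 ∧ i • a = b} → {x : G // x • a = b ∧ x • b = a} := fun i =>
    ⟨i, i.2.2, by
      have h2 : (i : G) * i = 1 := (pow_two _).symm.trans (orderOf_dvd_iff_pow_eq_one.1 i.2.1.dvd)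
      exact (congrArg ((i : G) • ·) i.2.2).symm.trans (by rw [smul_smul, h2, one_smul])⟩
  obtain ⟨i, hi⟩ := ((Nat.bijective_iff_injective_and_card ι).2
    ⟨fun x y h => Subtype.ext (congrArg Subtype.val h :), by
      rw [← hm, hmv, ← C.card_two hab, Nat.card_congr e]⟩).2 ⟨g, hga, hgb⟩
  have hg : (i : G) = g := congrArg Subtype.val hi
  rw [← hg, ← pow_two]
  exact orderOf_dvd_iff_pow_eq_one.1 i.2.1.dvd

/-- Such a group is `PGL₂`. -/
theorem iso : ∃ (F : Type) (_ : Field F) (_ : Fintype F), Fintype.card F = q ∧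
    Nonempty (G ≃* Matrix.ProjGenLinGroup (Fin 2) F) := by
  classical
  haveI := C.faithful
  haveI : Fintype (Sylow p G) := Fintype.ofFinite _
  have hc : Fintype.card (Sylow p G) = q + 1 := by rw [← Nat.card_eq_fintype_card, C.card_sylows]
  have hq := C.q3
  obtain ⟨a, b, hab⟩ := Fintype.exists_pair_of_one_lt_card (α := Sylow p G) (by omega)
  refine with_coords C.two_trans C.three hab (by rw [C.card_two hab, hc]; omega) (by omega) ?_
  intro p' f' _ V _ _ _ _ ρ π t e τ T z K
  have hinv : ∀ d : Two G a b, t * (d : G) * t = (d : G)⁻¹ := fun d => by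
    have := C.swap_sq hab K.ta K.tb (g := t * (d : G))
      (by rw [mul_smul, mem_stabilizer_iff.1 d.2.1, K.ta])
      (by rw [mul_smul, mem_stabilizer_iff.1 d.2.2, K.tb])
    exact eq_inv_of_mul_eq_one_left (by rw [← this]; group)
  obtain ⟨F, iF, iFF, hF, hiso⟩ := SharpPGL.pgl_of_comm C.two_trans hab K fun g g' => by
    refine Subtype.ext (inv_injective ?_)
    show ((g : G) * g')⁻¹ = ((g' : G) * g)⁻¹
    have h1 := hinv (g * g')
    rw [Subgroup.coe_mul] at h1
    rw [← h1, mul_inv_rev, ← hinv g, ← hinv g']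
    calc t * ((g : G) * g') * t = t * g * t * (t * g' * t) := by
          rw [show t * (g : G) * t * (t * g' * t) = t * g * (t * t) * g' * t by group, K.tt]; group
      _ = _ := rfl
  refine ⟨F, iF, iFF, ?_, hiso⟩
  have := K.card
  rw [K.pf, hc, ← hF] at this
  omega

end Counts

end Cfsg.Agent.Lie.PGLNse
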